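import Cfsg.Agent.Lib.Comp.RuR.F0

set_option autoImplicit false
set_option maxRecDepth 100000
set_option Elab.async false

namespace Cfsg.Lib.Comp.RuR

universe u

def Fw : List ℕ := [0,1,2,540,753,1055,1058,1079,1103,1172,1191,1435,1453,1476,1501,1556,1648,2305,2310,2313]

theorem fix_w : fixWB tb 4060 [[2]] Fw = true := by decide +kernel

theorem cen_w : cenN Fw aC ≤ 384 := by decide +kernel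

theorem fix_x : fixWB tb 4060 [[1]] [0,1,1476,1055] = true := by decide +kernel

theorem cen_x : cenN [1,1476,1055] a2C ≤ 156 := by decide +kernel

theorem fix_M : fixWB tb 4060 [[3],[4]] [0,1,1002] = true := by decide +kernel

theorem fix_z : fixWB tb 4060 [[3]] [0,1,836,985,1002,2667] = true := by decide +kernel

theorem fix_S : fixWB tb 4060 [[14,2,14],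
 [14,5,14]] [0,1,393,3862] = true := by decide +kernel

theorem orb_K : Nat.beq (orb rn [1,2,3,5,4,1,2,3,4,5,1,3,2,1] (msk [0,1,1002,2,3862,1095,1541,2257,3081])) (itv 0 4060) = true := by decide +kernel

def WS : List (List ℕ) := [[],
 [12],
 [12,12],
 [9,11],
 [12,9,11],
 [12,12,12]]

theorem big_S : allN 1752 (fun p => Nat.ble 6 (WS.map fun u => wap tb u (Nat.add 2308 p)).dedup.length) = true := by decide +kernel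

noncomputable def WN : List (List ℕ × ℕ × ℕ × List ℕ) := (apd [([],1,0,[]),
 ([2],1,0,[]),
 ([7],1,0,[]),
 ([8],1,0,[]),
 ([2,2],1,0,[]),
 ([2,7],1,0,[]),
 ([2,8],1,0,[]),
 ([7,7],1,0,[]),
 ([7,8],1,0,[]),
 ([8,2],1,0,[]),
 ([8,7],1,0,[]),
 ([8,8],1,0,[2,0,0,1,2,0,1,2,0,1,2,0,1]),
 ([2,2,2],1,0,[]),
 ([2,2,7],1,0,[]),
 ([2,2,8],1,0,[]),
 ([2,7,7],1,0,[]),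
 ([2,7,8],1,0,[]),
 ([2,8,7],1,0,[]),
 ([2,8,8],1,0,[2,0,0,1,2,0,1,2,0,1,2,0,2]),
 ([7,7,8],1,0,[]),
 ([7,8,2],1,0,[]),
 ([7,8,7],1,0,[]),
 ([7,8,8],1,0,[]),
 ([8,2,7],1,0,[]),
 ([8,2,8],1,0,[2,0,0,1,2,0,1,2,0,1,2,0,2]),
 ([8,7,7],1,0,[]),
 ([8,7,8],1,0,[]),
 ([8,8,7],1,0,[]),
 ([8,8,8],1,0,[]),
 ([2,2,2,7],1,0,[]),
 ([2,2,7,7],1,0,[]),
 ([2,2,7,8],1,0,[]),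
 ([2,2,8,7],1,0,[]),
 ([2,2,8,8],1,0,[2,0,0,1,2,0,1,0,2,0,1,0,2]),
 ([2,7,7,8],1,0,[]),
 ([2,7,8,7],1,0,[]),
 ([2,7,8,8],1,0,[]),
 ([2,8,7,7],1,0,[]),
 ([2,8,7,8],1,0,[]),
 ([2,8,8,7],1,0,[])]
 (apd [([2,8,8,8],1,0,[]),
 ([7,7,8,2],1,0,[]),
 ([7,7,8,7],1,0,[]),
 ([7,7,8,8],1,0,[]),
 ([7,8,2,7],1,0,[]),
 ([7,8,2,8],1,0,[]),
 ([7,8,7,7],1,0,[]),
 ([7,8,7,8],1,0,[]),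
 ([7,8,8,7],1,0,[]),
 ([7,8,8,8],1,0,[]),
 ([8,2,7,7],1,0,[]),
 ([8,2,7,8],1,0,[]),
 ([8,2,8,7],1,0,[]),
 ([8,2,8,8],1,0,[]),
 ([8,7,7,8],1,0,[]),
 ([8,7,8,7],1,0,[]),
 ([8,7,8,8],1,0,[]),
 ([8,8,7,7],1,0,[]),
 ([8,8,7,8],1,0,[]),
 ([8,8,8,7],1,0,[]),
 ([2,2,2,7,7],1,0,[]),
 ([2,2,7,7,8],1,0,[]),
 ([2,2,7,8,7],1,0,[]),
 ([2,2,7,8,8],1,0,[]),
 ([2,2,8,7,7],1,0,[]),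
 ([2,2,8,7,8],1,0,[]),
 ([2,2,8,8,7],1,0,[]),
 ([2,2,8,8,8],1,0,[]),
 ([2,7,7,8,7],1,0,[]),
 ([2,7,7,8,8],1,0,[]),
 ([2,7,8,7,7],1,0,[]),
 ([2,7,8,7,8],1,0,[]),
 ([2,7,8,8,7],1,0,[]),
 ([2,7,8,8,8],1,0,[]),
 ([2,8,7,7,8],1,0,[]),
 ([2,8,7,8,7],1,0,[]),
 ([2,8,7,8,8],1,0,[]),
 ([2,8,8,7,7],1,0,[]),
 ([2,8,8,7,8],1,0,[]),
 ([2,8,8,8,7],1,0,[])]
 (apd [([7,7,8,2,7],1,0,[]),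
 ([7,7,8,2,8],1,0,[]),
 ([7,7,8,7,7],1,0,[]),
 ([7,7,8,7,8],1,0,[]),
 ([7,7,8,8,7],1,0,[2,0,0,1,2,0,1,0,2,0,1,0,2]),
 ([7,7,8,8,8],1,0,[]),
 ([7,8,2,7,7],1,0,[]),
 ([7,8,2,7,8],1,0,[]),
 ([7,8,2,8,7],1,0,[]),
 ([7,8,2,8,8],1,0,[]),
 ([7,8,7,7,8],1,0,[]),
 ([7,8,7,8,7],1,0,[]),
 ([7,8,7,8,8],1,0,[]),
 ([7,8,8,7,7],1,0,[2,0,0,1,2,0,1,2,0,1,0,2,0,1]),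
 ([7,8,8,7,8],1,0,[]),
 ([7,8,8,8,7],1,0,[]),
 ([8,2,7,7,8],1,0,[]),
 ([8,2,7,8,7],1,0,[]),
 ([8,2,7,8,8],1,0,[]),
 ([8,2,8,7,7],1,0,[]),
 ([8,2,8,7,8],1,0,[]),
 ([8,2,8,8,7],1,0,[]),
 ([8,7,7,8,7],1,0,[]),
 ([8,7,7,8,8],1,0,[]),
 ([8,7,8,7,7],1,0,[]),
 ([8,7,8,7,8],1,0,[]),
 ([8,7,8,8,7],1,0,[]),
 ([8,7,8,8,8],1,0,[]),
 ([8,8,7,7,8],1,0,[]),
 ([8,8,7,8,7],1,0,[]),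
 ([8,8,7,8,8],1,0,[]),
 ([8,8,8,7,7],1,0,[]),
 ([8,8,8,7,8],1,0,[]),
 ([2,2,7,7,8,7],1,0,[]),
 ([2,2,7,7,8,8],1,0,[]),
 ([2,2,7,8,7,7],1,0,[]),
 ([2,2,7,8,7,8],1,0,[]),
 ([2,2,7,8,8,7],1,0,[]),
 ([2,2,7,8,8,8],1,0,[]),
 ([2,2,8,7,7,8],1,0,[])]
 (apd [([2,2,8,7,8,7],1,0,[]),
 ([2,2,8,7,8,8],1,0,[]),
 ([2,2,8,8,7,7],1,0,[]),
 ([2,2,8,8,7,8],1,0,[]),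
 ([2,2,8,8,8,7],1,0,[]),
 ([2,7,7,8,7,7],1,0,[]),
 ([2,7,7,8,7,8],1,0,[]),
 ([2,7,7,8,8,7],1,0,[2,0,0,1,2,0,1,2,0,1,2,0,2]),
 ([2,7,7,8,8,8],1,0,[]),
 ([2,7,8,7,7,8],1,0,[]),
 ([2,7,8,7,8,7],1,0,[]),
 ([2,7,8,7,8,8],1,0,[]),
 ([2,7,8,8,7,7],1,0,[2,0,0,1,2,0,1,2,0,1,0,2,0,1]),
 ([2,7,8,8,7,8],1,0,[]),
 ([2,7,8,8,8,7],1,0,[]),
 ([2,8,7,7,8,7],1,0,[]),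
 ([2,8,7,7,8,8],1,0,[]),
 ([2,8,7,8,7,7],1,0,[]),
 ([2,8,7,8,7,8],1,0,[]),
 ([2,8,7,8,8,7],1,0,[]),
 ([2,8,7,8,8,8],1,0,[]),
 ([2,8,8,7,7,8],1,0,[]),
 ([2,8,8,7,8,7],1,0,[]),
 ([2,8,8,7,8,8],1,0,[]),
 ([2,8,8,8,7,7],1,0,[]),
 ([2,8,8,8,7,8],1,0,[]),
 ([7,7,8,2,7,7],1,0,[]),
 ([7,7,8,2,7,8],1,0,[]),
 ([7,7,8,2,8,7],1,0,[2,0,0,1,2,0,1,2,0,1,2,0,1]),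
 ([7,7,8,2,8,8],1,0,[]),
 ([7,7,8,7,7,8],1,0,[]),
 ([7,7,8,7,8,7],1,0,[]),
 ([7,7,8,7,8,8],1,0,[]),
 ([7,7,8,8,7,8],1,0,[]),
 ([7,7,8,8,8,7],1,0,[]),
 ([7,8,2,7,7,8],1,0,[]),
 ([7,8,2,7,8,7],1,0,[]),
 ([7,8,2,7,8,8],1,0,[]),
 ([7,8,2,8,7,7],1,0,[2,0,0,1,2,0,1,2,0,1,2,0,2,0]),
 ([7,8,2,8,7,8],1,0,[])]
 (apd [([7,8,2,8,8,7],1,0,[]),
 ([7,8,7,7,8,7],1,0,[]),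
 ([7,8,7,7,8,8],1,0,[]),
 ([7,8,7,8,7,7],1,0,[]),
 ([7,8,7,8,7,8],1,1055,[2,0,0,1,2,0,1,2,0,1,2,0,2,1,0,0]),
 ([7,8,7,8,8,7],1,0,[]),
 ([7,8,7,8,8,8],1,0,[]),
 ([7,8,8,7,7,8],1,0,[]),
 ([7,8,8,7,8,7],1,0,[]),
 ([7,8,8,8,7,7],1,0,[]),
 ([7,8,8,8,7,8],1,0,[]),
 ([8,2,7,7,8,7],1,0,[]),
 ([8,2,7,7,8,8],1,0,[]),
 ([8,2,7,8,7,7],1,0,[]),
 ([8,2,7,8,7,8],1,0,[]),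
 ([8,2,7,8,8,7],1,0,[]),
 ([8,2,7,8,8,8],1,0,[]),
 ([8,2,8,7,7,8],1,0,[]),
 ([8,2,8,7,8,7],1,0,[]),
 ([8,2,8,7,8,8],1,0,[]),
 ([8,2,8,8,7,7],1,0,[]),
 ([8,2,8,8,7,8],1,0,[]),
 ([8,7,7,8,7,7],1,0,[]),
 ([8,7,7,8,8,8],1,0,[]),
 ([8,7,8,7,7,8],1,0,[]),
 ([8,7,8,7,8,7],1,1476,[2,0,0,1,2,0,1,2,0,1,2,0,2,0,2]),
 ([8,7,8,7,8,8],1,0,[]),
 ([8,7,8,8,7,8],1,0,[]),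
 ([8,7,8,8,8,7],1,0,[]),
 ([8,8,7,8,7,8],1,0,[]),
 ([8,8,7,8,8,8],1,0,[]),
 ([8,8,8,7,7,8],1,0,[]),
 ([8,8,8,7,8,7],1,0,[]),
 ([8,8,8,7,8,8],1,0,[]),
 ([2,2,7,7,8,7,7],1,0,[]),
 ([2,2,7,7,8,7,8],1,0,[]),
 ([2,2,7,7,8,8,7],1,0,[2,0,0,1,2,0,1,0,2,0,1,0,2]),
 ([2,2,7,7,8,8,8],1,0,[]),
 ([2,2,7,8,7,7,8],1,0,[]),
 ([2,2,7,8,7,8,7],1,0,[])]
 (apd [([2,2,7,8,7,8,8],1,0,[]),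
 ([2,2,7,8,8,7,7],1,0,[2,0,0,1,2,0,1,0,2,0,1,0,2,0]),
 ([2,2,7,8,8,7,8],1,0,[]),
 ([2,2,7,8,8,8,7],1,0,[]),
 ([2,2,8,7,7,8,7],1,0,[]),
 ([2,2,8,7,7,8,8],1,0,[]),
 ([2,2,8,7,8,7,7],1,0,[]),
 ([2,2,8,7,8,7,8],1,0,[]),
 ([2,2,8,7,8,8,7],1,0,[]),
 ([2,2,8,8,7,7,8],1,0,[]),
 ([2,2,8,8,7,8,7],1,0,[]),
 ([2,2,8,8,7,8,8],1,0,[]),
 ([2,2,8,8,8,7,7],1,0,[]),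
 ([2,2,8,8,8,7,8],1,0,[]),
 ([2,7,7,8,7,7,8],1,0,[]),
 ([2,7,7,8,7,8,7],1,0,[]),
 ([2,7,7,8,7,8,8],1,0,[]),
 ([2,7,7,8,8,7,8],1,0,[]),
 ([2,7,7,8,8,8,7],1,0,[]),
 ([2,7,8,7,7,8,8],1,0,[]),
 ([2,7,8,7,8,7,7],1,0,[]),
 ([2,7,8,7,8,7,8],1,1055,[2,0,0,1,2,0,1,2,0,1,2,0,2,0,2,0]),
 ([2,7,8,7,8,8,7],1,0,[]),
 ([2,7,8,7,8,8,8],1,0,[]),
 ([2,7,8,8,7,7,8],1,0,[]),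
 ([2,7,8,8,7,8,7],1,0,[]),
 ([2,7,8,8,8,7,7],1,0,[]),
 ([2,7,8,8,8,7,8],1,0,[]),
 ([2,8,7,7,8,7,7],1,0,[]),
 ([2,8,7,7,8,8,8],1,0,[]),
 ([2,8,7,8,7,7,8],1,0,[]),
 ([2,8,7,8,7,8,7],1,1476,[2,0,0,1,2,0,1,2,0,1,2,0,2,1,0,0]),
 ([2,8,7,8,7,8,8],1,0,[]),
 ([2,8,7,8,8,7,8],1,0,[]),
 ([2,8,7,8,8,8,7],1,0,[]),
 ([2,8,8,7,8,7,8],1,0,[]),
 ([2,8,8,7,8,8,8],1,0,[]),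
 ([2,8,8,8,7,7,8],1,0,[]),
 ([2,8,8,8,7,8,7],1,0,[]),
 ([2,8,8,8,7,8,8],1,0,[])]
 (apd [([7,7,8,2,7,7,8],1,0,[]),
 ([7,7,8,2,7,8,7],1,0,[]),
 ([7,7,8,2,7,8,8],1,0,[]),
 ([7,7,8,2,8,7,8],1,0,[]),
 ([7,7,8,2,8,8,7],1,0,[]),
 ([7,7,8,7,7,8,7],1,0,[]),
 ([7,7,8,7,7,8,8],1,0,[]),
 ([7,7,8,7,8,7,7],1,0,[]),
 ([7,7,8,7,8,7,8],1,0,[]),
 ([7,7,8,7,8,8,7],1,0,[]),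
 ([7,7,8,8,8,7,7],1,0,[]),
 ([7,7,8,8,8,7,8],1,0,[]),
 ([7,8,2,7,7,8,8],1,0,[]),
 ([7,8,2,7,8,7,7],1,0,[]),
 ([7,8,2,7,8,7,8],1,1055,[2,0,0,1,2,0,1,2,0,1,2,0,2,0,2,0]),
 ([7,8,2,7,8,8,8],1,0,[]),
 ([7,8,2,8,7,7,8],1,0,[]),
 ([7,8,2,8,7,8,7],1,0,[]),
 ([7,8,2,8,8,7,7],1,0,[]),
 ([7,8,2,8,8,7,8],1,0,[]),
 ([7,8,7,7,8,7,7],1,0,[]),
 ([7,8,7,7,8,8,8],1,0,[]),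
 ([7,8,7,8,7,7,8],1,0,[]),
 ([7,8,7,8,7,8,7],1,0,[]),
 ([7,8,7,8,7,8,8],1,0,[]),
 ([7,8,7,8,8,7,8],1,0,[]),
 ([7,8,7,8,8,8,7],1,0,[]),
 ([7,8,8,7,8,7,8],1,0,[]),
 ([7,8,8,8,7,8,7],1,0,[]),
 ([8,2,7,7,8,7,7],1,0,[]),
 ([8,2,7,7,8,8,8],1,0,[]),
 ([8,2,7,8,7,8,7],1,1476,[2,0,0,1,2,0,1,2,0,1,2,0,2,1,0,0]),
 ([8,2,7,8,7,8,8],1,0,[]),
 ([8,2,7,8,8,7,8],1,0,[]),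
 ([8,2,7,8,8,8,7],1,0,[]),
 ([8,2,8,7,8,7,8],1,0,[]),
 ([8,2,8,7,8,8,8],1,0,[]),
 ([8,2,8,8,7,7,8],1,0,[]),
 ([8,2,8,8,7,8,7],1,0,[]),
 ([8,2,8,8,7,8,8],1,0,[])]
 (apd [([8,7,7,8,7,7,8],1,0,[]),
 ([8,7,7,8,8,8,7],1,0,[]),
 ([8,7,8,7,7,8,7],1,0,[]),
 ([8,7,8,7,7,8,8],1,0,[]),
 ([8,7,8,7,8,7,7],1,0,[]),
 ([8,7,8,7,8,8,7],1,0,[]),
 ([8,7,8,7,8,8,8],1,0,[]),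
 ([8,7,8,8,7,8,7],1,0,[]),
 ([8,7,8,8,8,7,8],1,0,[]),
 ([8,8,8,7,8,7,8],1,0,[]),
 ([8,8,8,7,8,8,8],1,0,[]),
 ([2,2,7,7,8,7,7,8],1,0,[]),
 ([2,2,7,7,8,7,8,7],1,0,[]),
 ([2,2,7,7,8,7,8,8],1,0,[]),
 ([2,2,7,7,8,8,7,8],1,0,[]),
 ([2,2,7,7,8,8,8,7],1,0,[]),
 ([2,2,7,8,7,7,8,8],1,0,[]),
 ([2,2,7,8,7,8,7,7],1,0,[]),
 ([2,2,7,8,7,8,7,8],1,1055,[2,0,0,1,2,0,1,2,0,1,2,0,2,1,0,0]),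
 ([2,2,7,8,8,7,7,8],1,0,[]),
 ([2,2,7,8,8,7,8,7],1,0,[]),
 ([2,2,7,8,8,8,7,7],1,0,[]),
 ([2,2,7,8,8,8,7,8],1,0,[]),
 ([2,2,8,7,7,8,7,7],1,0,[]),
 ([2,2,8,7,7,8,8,8],1,0,[]),
 ([2,2,8,7,8,7,8,7],1,1476,[2,0,0,1,2,0,1,2,0,1,2,0,2,0,2]),
 ([2,2,8,7,8,7,8,8],1,0,[]),
 ([2,2,8,7,8,8,7,8],1,0,[]),
 ([2,2,8,8,7,8,7,8],1,0,[]),
 ([2,2,8,8,8,7,8,7],1,0,[]),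
 ([2,2,8,8,8,7,8,8],1,0,[]),
 ([2,7,7,8,7,7,8,8],1,0,[]),
 ([2,7,7,8,7,8,7,8],1,0,[]),
 ([2,7,7,8,7,8,8,7],1,0,[]),
 ([2,7,7,8,8,8,7,7],1,0,[]),
 ([2,7,7,8,8,8,7,8],1,0,[]),
 ([2,7,8,7,7,8,8,8],1,0,[]),
 ([2,7,8,7,8,7,7,8],1,0,[]),
 ([2,7,8,7,8,7,8,7],1,0,[]),
 ([2,7,8,7,8,7,8,8],1,0,[])]
 (apd [([2,7,8,7,8,8,7,8],1,0,[]),
 ([2,7,8,7,8,8,8,7],1,0,[]),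
 ([2,7,8,8,7,8,7,8],1,0,[]),
 ([2,7,8,8,8,7,8,7],1,0,[]),
 ([2,8,7,7,8,7,7,8],1,0,[]),
 ([2,8,7,7,8,8,8,7],1,0,[]),
 ([2,8,7,8,7,7,8,8],1,0,[]),
 ([2,8,7,8,7,8,7,7],1,0,[]),
 ([2,8,7,8,7,8,8,7],1,0,[]),
 ([2,8,7,8,7,8,8,8],1,0,[]),
 ([2,8,7,8,8,7,8,7],1,0,[]),
 ([2,8,7,8,8,8,7,8],1,0,[]),
 ([2,8,8,8,7,8,7,8],1,0,[]),
 ([2,8,8,8,7,8,8,8],1,0,[]),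
 ([7,7,8,2,7,7,8,8],1,0,[]),
 ([7,7,8,2,7,8,7,8],1,0,[]),
 ([7,7,8,2,8,8,7,7],1,0,[]),
 ([7,7,8,7,7,8,7,7],1,0,[]),
 ([7,7,8,7,7,8,8,8],1,0,[]),
 ([7,7,8,7,8,7,8,8],1,0,[]),
 ([7,7,8,7,8,8,7,8],1,0,[]),
 ([7,7,8,8,8,7,8,7],1,0,[]),
 ([7,8,2,7,8,7,8,8],1,0,[]),
 ([7,8,2,7,8,8,8,7],1,0,[]),
 ([7,8,2,8,8,7,8,7],1,0,[]),
 ([7,8,7,7,8,7,7,8],1,0,[]),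
 ([7,8,7,7,8,8,8,7],1,0,[]),
 ([7,8,7,8,7,7,8,8],1,0,[]),
 ([7,8,7,8,7,8,8,7],1,0,[]),
 ([7,8,7,8,7,8,8,8],1476,1,[2,0,0,1,2,0,1,2,0,2,0,1,2,0,1,0,0]),
 ([7,8,8,8,7,8,7,8],1,0,[2,0,0,1,2,0,1,2,0,1,2,0,2]),
 ([8,2,7,8,7,8,7,7],1,0,[]),
 ([8,2,7,8,7,8,8,8],1,0,[]),
 ([8,2,7,8,8,8,7,8],1,0,[]),
 ([8,2,8,8,7,8,7,8],1,0,[]),
 ([8,2,8,8,7,8,8,8],1,0,[]),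
 ([8,7,7,8,7,7,8,7],1,0,[]),
 ([8,7,7,8,7,7,8,8],1,0,[]),
 ([8,7,7,8,8,8,7,7],1,0,[]),
 ([2,2,7,7,8,7,7,8,8],1,0,[])]
 [([2,2,7,7,8,7,8,7,8],1,0,[]),
 ([2,2,7,7,8,8,8,7,7],1,0,[]),
 ([2,2,7,8,7,8,7,8,8],1,0,[]),
 ([2,2,7,8,8,8,7,8,7],1,0,[]),
 ([2,2,8,7,8,7,8,7,7],1,0,[]),
 ([2,2,8,8,8,7,8,7,8],1,0,[]),
 ([2,7,7,8,7,7,8,8,8],1,0,[]),
 ([2,7,7,8,7,8,7,8,8],1,0,[]),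
 ([2,7,7,8,7,8,8,7,8],1,0,[]),
 ([2,7,7,8,8,8,7,8,7],1,0,[]),
 ([2,7,8,7,8,7,7,8,8],1,0,[]),
 ([2,7,8,7,8,7,8,8,7],1,0,[]),
 ([2,7,8,7,8,7,8,8,8],1476,1,[2,0,0,1,2,0,1,2,0,1,2,0,2,0,2,0]),
 ([2,7,8,8,8,7,8,7,8],1,0,[2,0,0,1,2,0,1,2,0,2,0,1,2,0]),
 ([2,8,7,7,8,7,7,8,8],1,0,[]),
 ([2,8,7,7,8,8,8,7,7],1,0,[]),
 ([7,7,8,8,8,7,8,7,8],1,0,[]),
 ([7,8,2,7,8,7,8,8,8],1476,1,[2,0,0,1,2,0,1,2,0,1,2,0,2,0,2,0]),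
 ([7,8,2,8,8,7,8,7,8],1,0,[2,0,0,1,2,0,1,2,0,1,2,0,2]),
 ([7,8,7,7,8,7,7,8,7],1476,1,[2,0,0,1,2,0,1,2,0,2,0,1,2,0,1,0,0]),
 ([8,7,7,8,7,7,8,8,8],1,0,[]),
 ([2,2,7,8,8,8,7,8,7,8],1,0,[2,0,0,1,2,0,1,2,0,1,2,0,2,0]),
 ([2,7,7,8,8,8,7,8,7,8],1,0,[]),
 ([2,8,7,7,8,7,7,8,8,8],1,0,[])])))))))))

/-- the powers of `w`. -/
def P2 : List (List ℕ) := [[], [2], [2, 2], [2, 2, 2]]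

/-- the check of an element normalising `w`. -/
noncomputable def chkN (e : List ℕ × ℕ × ℕ × List ℕ) : Bool :=
  cnd (allL P2 fun v => cnd (eqP tb (bases aC) LH e.1 1 v) false true)
    (cnd (allL P2 fun v => cnd (eqP tb (bases aC) LH e.1 2 v) false true) true
      (cnd (decide (e.2.1 ∈ [1, 1476, 1055])) (cnd (Nat.beq e.2.2.1 0)
        (Nat.ble 301 (orbN rn (e.2.2.2.map (nth [] [[1], [2], e.1])) e.2.1 4060))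
        (cnd (decide (e.2.2.1 ∈ [1, 1476, 1055])) (cnd (Nat.beq (wap tb e.1 e.2.2.1) e.2.2.1)
          (Nat.ble 300 (orbN rn (e.2.2.2.map (nth [] [[1], [2], e.1])) e.2.1 4060)) false) false)) false)) true

theorem chk_N : allL WN chkN = true := by decide +kernel

theorem sub_N : allL WN (fun e => subB e.1 [2, 7, 8]) = true := by decide +kernel

theorem nd_N : ((WN.map Prod.fst).map fun u => (bases aC).map (wap tb u)).Nodup := by decide +kernel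

theorem len_N : (WN.map Prod.fst).length = 384 := by decide +kernel

end Cfsg.Lib.Comp.RuR
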